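import Cfsg.Agent.H8.S3Amalgam.Main

/-!
A 2-constrained subgroup with dihedral quotient of order `2q` whose Sylow 2-subgroup is normalised
by an element `y` killing all its normal subgroups: `q = 3` (an offender induces a transvection).
-/

set_option autoImplicit false
set_option linter.style.haveILetI false

namespace H8.S3Am

open scoped commutatorElement

variable {G : Type*} [Group G] [Finite G]

theorem dihedral_pair {q : ℕ} (hq : q.Prime) (hq2 : q ≠ 2) {s : DihedralGroup q} (hs : s * s = 1)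
    (hs1 : s ≠ 1) (k : ℕ) :
    (s * (DihedralGroup.r 1 * s * (DihedralGroup.r 1)⁻¹)) ^ (2 ^ k) ≠ 1 ∧
      (s * (DihedralGroup.r 1 * s * (DihedralGroup.r 1)⁻¹)) ^ q = 1 := by
  haveI : Fact q.Prime := ⟨hq⟩
  have h2 : (2 : ZMod q) ≠ 0 := by
    intro h
    have : ((2 : ℕ) : ZMod q) = 0 := by exact_mod_cast h
    rw [ZMod.natCast_eq_zero_iff] at this
    exact hq2 ((Nat.prime_dvd_prime_iff_eq hq Nat.prime_two).1 this)
  rcases s with i | i
  · exfalso
    apply hs1
    rw [DihedralGroup.r_mul_r] at hs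
    have h := DihedralGroup.r.inj hs
    rw [← two_mul, mul_eq_zero] at h
    rw [h.resolve_left h2]
    rfl
  · have e : DihedralGroup.sr i *
        (DihedralGroup.r 1 * DihedralGroup.sr i * (DihedralGroup.r 1)⁻¹) =
        DihedralGroup.r (-2 : ZMod q) := by
      rw [DihedralGroup.r_mul_sr, DihedralGroup.inv_r, DihedralGroup.sr_mul_r,
        DihedralGroup.sr_mul_sr]
      congr 1
      ring
    rw [e, DihedralGroup.r_pow, DihedralGroup.r_pow]
    refine ⟨fun h => ?_, ?_⟩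
    · have h' := DihedralGroup.r.inj h
      rw [mul_eq_zero] at h'
      rcases h' with h' | h'
      · exact h2 (neg_eq_zero.1 h')
      · exact h2 (pow_eq_zero_iff'.1 (by exact_mod_cast h')).1
    · rw [ZMod.natCast_self, mul_zero]; rfl

/-- elementary abelian -/
def El (A : Subgroup G) : Prop :=
  (∀ a ∈ A, ∀ b ∈ A, a * b = b * a) ∧ ∀ a ∈ A, a * a = 1

theorem El.sup {A B : Subgroup G} (hA : El A) (hB : El B)
    (h : ∀ a ∈ A, ∀ b ∈ B, a * b = b * a) : El (A ⊔ B) := by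
  have hc : ∀ x ∈ A ⊔ B, ∀ y ∈ A ⊔ B, x * y = y * x := by
    have key : ∀ y ∈ A ⊔ B, ∀ x, (x ∈ A ∨ x ∈ B) → x * y = y * x := by
      intro y hy x hx
      have : A ⊔ B ≤ Subgroup.centralizer ({x} : Set G) := by
        refine sup_le ?_ ?_ <;> intro z hz <;> rw [Subgroup.mem_centralizer_singleton_iff] <;>
          rcases hx with hx | hx
        exacts [hA.1 z hz x hx, h z hz x hx, (h x hx z hz).symm, hB.1 z hz x hx]
      exact (Subgroup.mem_centralizer_singleton_iff.1 (this hy)).symm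
    intro x hx y hy
    have : A ⊔ B ≤ Subgroup.centralizer ({y} : Set G) := by
      refine sup_le ?_ ?_ <;> intro z hz <;> rw [Subgroup.mem_centralizer_singleton_iff]
      exacts [key y hy z (Or.inl hz), key y hy z (Or.inr hz)]
    exact Subgroup.mem_centralizer_singleton_iff.1 (this hx)
  refine ⟨hc, fun x hx => ?_⟩
  rw [Subgroup.sup_eq_closure] at hx
  induction hx using Subgroup.closure_induction with
  | mem x hx => exact hx.elim (hA.2 x) (hB.2 x)
  | one => simp
  | mul x y hx hy h1 h2 =>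
    rw [← Subgroup.sup_eq_closure] at hx hy
    calc x * y * (x * y) = x * (y * x) * y := by group
      _ = x * x * (y * y) := by rw [← hc x hx y hy]; group
      _ = 1 := by rw [h1, h2, mul_one]
  | inv x hx h1 => rw [← mul_inv_rev, h1, inv_one]

theorem card_sup_ge (A B : Subgroup G) : B.relIndex A * Nat.card B ≤ Nat.card (A ⊔ B : Subgroup G) := by
  rw [← Subgroup.relIndex_bot_left (H := A ⊔ B),
    ← Subgroup.relIndex_mul_relIndex ⊥ B (A ⊔ B) bot_le le_sup_right, Subgroup.relIndex_bot_left,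
    mul_comm]
  exact Nat.mul_le_mul le_rfl
    (Subgroup.relIndex_le_of_le_right le_sup_left Subgroup.index_ne_zero_of_finite)

omit [Finite G] in
theorem zc_ne_bot_of {T : Subgroup G} [Finite T] (hT : IsPGroup 2 T) (hne : T ≠ ⊥) :
    zc T ≠ ⊥ := by
  haveI : Fact (Nat.Prime 2) := ⟨Nat.prime_two⟩
  haveI : Nontrivial T := (Subgroup.nontrivial_iff_ne_bot T).2 hne
  haveI hZ : Nontrivial (Subgroup.center T) := hT.center_nontrivial
  obtain ⟨k, hk⟩ := IsPGroup.iff_card.1 (hT.to_subgroup (Subgroup.center T))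
  have h1 : 1 < Nat.card (Subgroup.center T) := Finite.one_lt_card
  have hd : 2 ∣ Nat.card (Subgroup.center T) := by
    rw [hk] at h1 ⊢
    exact dvd_pow_self 2 (by rintro rfl; simp at h1)
  obtain ⟨z, hz⟩ := exists_prime_orderOf_dvd_card' 2 hd
  intro hbot
  have hmem : ((z : T) : G) ∈ zc T := by
    refine Subgroup.subset_closure ⟨⟨(z : T).2, Subgroup.mem_centralizer_iff.2 fun t ht => ?_⟩, ?_⟩
    · exact congrArg Subtype.val (Subgroup.mem_center_iff.1 z.2 ⟨t, ht⟩)
    · have := pow_orderOf_eq_one z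
      rw [hz] at this
      exact_mod_cast congrArg (fun w : Subgroup.center T => ((w : T) : G)) this
  rw [hbot, Subgroup.mem_bot] at hmem
  have : z = 1 := Subtype.ext (Subtype.ext hmem)
  rw [this, orderOf_one] at hz
  omega

variable {A T Q : Subgroup G} {q : ℕ} {y : G}

theorem offender_three (hq : q.Prime) (hq2 : q ≠ 2) (φ : A →* DihedralGroup q)
    (hsurj : Function.Surjective φ) (hker : φ.ker.map A.subtype = Q)
    (hTA : T ≤ A) (hQT : Q ≤ T) (hT2 : IsPGroup 2 T) (hTne : T ≠ ⊥) (hidx : T.relIndex A = q)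
    (hQidx : Q.relIndex T = 2) (hQn : A ≤ Subgroup.normalizer (Q : Set G))
    (hcons : A ⊓ Subgroup.centralizer (Q : Set G) ≤ Q) (hyT : cj y T = T)
    (hkill : ∀ N : Subgroup G, N ≤ T → A ≤ Subgroup.normalizer (N : Set G) → cj y N = N → N = ⊥) :
    q = 3 := by
  classical
  by_contra hq3
  have hq5 : 5 ≤ q := by
    have := hq.two_le
    have h4 : q ≠ 4 := by rintro rfl; norm_num at hq
    omega
  -- the elementary abelian subgroups of largest order
  let 𝓐 : Set (Subgroup G) := {X | X ≤ T ∧ El X ∧ ∀ X' : Subgroup G, X' ≤ T → El X' →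
    Nat.card X' ≤ Nat.card X}
  have hcjEl : ∀ (g : G) (X : Subgroup G), El X → El (cj g X) := by
    intro g X hX
    constructor
    · rintro _ ⟨a, ha, rfl⟩ _ ⟨b, hb, rfl⟩
      rw [← map_mul, hX.1 a ha b hb, map_mul]
    · rintro _ ⟨a, ha, rfl⟩
      rw [← map_mul, hX.2 a ha, map_one]
  have hcjcard : ∀ (g : G) (X : Subgroup G), Nat.card (cj g X) = Nat.card X := fun g X =>
    (Nat.card_congr (cjEquiv g X).toEquiv).symm
  obtain ⟨X₀, hX₀⟩ : ∃ X, X ∈ 𝓐 := by
    obtain ⟨X, ⟨hX, hXe⟩, hmax⟩ := Set.exists_max_image {X : Subgroup G | X ≤ T ∧ El X}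
      (fun X => Nat.card X) (Set.toFinite _) ⟨⊥, bot_le, by
        constructor <;> intro a ha <;> simp [Subgroup.mem_bot.1 ha]⟩
    exact ⟨X, hX, hXe, fun X' h1 h2 => hmax X' ⟨h1, h2⟩⟩
  have hexists : ∃ X ∈ 𝓐, ¬ X ≤ Q := by
    by_contra hall
    push Not at hall
    set J : Subgroup G := ⨆ X ∈ 𝓐, X with hJ
    have hmap : ∀ g : G, (∀ X ∈ 𝓐, cj g X ≤ T) → cj g J ≤ J := by
      intro g hg
      unfold cj
      rw [hJ, Subgroup.map_iSup]
      refine iSup_le fun X => ?_
      rw [Subgroup.map_iSup]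
      refine iSup_le fun hX => ?_
      exact le_iSup₂_of_le (cj g X)
        ⟨hg X hX, hcjEl g X hX.2.1, fun X' h1 h2 => (hX.2.2 X' h1 h2).trans (hcjcard g X).ge⟩ le_rfl
    have heq : ∀ g : G, (∀ X ∈ 𝓐, cj g X ≤ T) → cj g J = J := fun g hg =>
      Subgroup.eq_of_le_of_card_ge (hmap g hg) (hcjcard g J).ge
    have hbot : J = ⊥ := by
      refine hkill J (iSup₂_le fun X hX => hX.1) (fun g hg => mem_normalizer_of_cj (heq g ?_))
        (heq y fun X hX => (cj_mono hX.1).trans hyT.le)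
      intro X hX
      exact (cj_mono (hall X hX)).trans
        ((cj_eq_of_mem_normalizer (hQn hg)).le.trans hQT)
    have hX0 : X₀ = ⊥ := le_bot_iff.1 (hbot ▸ le_iSup₂_of_le X₀ hX₀ le_rfl)
    haveI : Fact (Nat.Prime 2) := ⟨Nat.prime_two⟩
    haveI : Nontrivial T := (Subgroup.nontrivial_iff_ne_bot T).2 hTne
    obtain ⟨k, hk⟩ := IsPGroup.iff_card.1 hT2
    have h1 : 1 < Nat.card T := Finite.one_lt_card
    have hdvd : 2 ∣ Nat.card T := by
      rw [hk] at h1 ⊢
      exact dvd_pow_self 2 (by rintro rfl; simp at h1)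
    obtain ⟨t, ht⟩ := exists_prime_orderOf_dvd_card' 2 hdvd
    have hz : El (Subgroup.zpowers (t : G)) := by
      have ht2 : (t : G) * t = 1 := by
        have := pow_orderOf_eq_one t
        rw [ht, pow_two] at this
        exact congrArg Subtype.val this
      have hc : ∀ a ∈ Subgroup.zpowers (t : G), a = 1 ∨ a = t := by
        rintro _ ⟨i, rfl⟩
        rcases Int.even_or_odd i with ⟨j, rfl⟩ | ⟨j, rfl⟩
        · left; simp only []; rw [← two_mul, zpow_mul, zpow_two, ht2, one_zpow]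
        · right; simp only []; rw [zpow_add_one, zpow_mul, zpow_two, ht2, one_zpow, one_mul]
      constructor
      · intro a ha b hb
        rcases hc a ha with rfl | rfl <;> rcases hc b hb with rfl | rfl <;> simp
      · intro a ha
        rcases hc a ha with rfl | rfl <;> simp [ht2]
    have h2 := hX₀.2.2 _ (Subgroup.zpowers_le.2 t.2) hz
    rw [hX0, Subgroup.card_bot, Nat.card_zpowers, Subgroup.orderOf_coe, ht] at h2
    omega
  obtain ⟨X, ⟨hXT, hXe, hXmax⟩, hXQ⟩ := hexists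
  obtain ⟨a, ha, haQ⟩ := SetLike.not_le_iff_exists.1 hXQ
  have haA : a ∈ A := hTA (hXT ha)
  -- the module
  let V : Subgroup G :=
    { carrier := {z | z ∈ Q ∧ (∀ p ∈ Q, p * z = z * p) ∧ z * z = 1}
      one_mem' := ⟨one_mem _, fun p _ => by simp, by simp⟩
      mul_mem' := by
        rintro u v ⟨hu, hu1, hu2⟩ ⟨hv, hv1, hv2⟩
        refine ⟨mul_mem hu hv, fun p hp => ?_, ?_⟩
        · rw [← mul_assoc, hu1 p hp, mul_assoc, hv1 p hp, mul_assoc]
        · calc u * v * (u * v) = u * (v * u) * v := by group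
            _ = u * u * (v * v) := by rw [hu1 v hv]; group
            _ = 1 := by rw [hu2, hv2, mul_one]
      inv_mem' := by
        rintro u ⟨hu, hu1, hu2⟩
        rw [inv_eq_of_mul_eq_one_right hu2]
        exact ⟨hu, hu1, hu2⟩ }
  have hVn : ∀ g ∈ A, ∀ z ∈ V, g * z * g⁻¹ ∈ V := by
    rintro g hg z ⟨hz, hz1, hz2⟩
    have hn := hQn hg
    refine ⟨(Subgroup.mem_normalizer_iff.1 hn z).1 hz, fun p hp => ?_, ?_⟩
    · have hp' : g⁻¹ * p * g ∈ Q := by
        simpa using (Subgroup.mem_normalizer_iff.1 (inv_mem hn) p).1 hp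
      calc p * (g * z * g⁻¹) = g * ((g⁻¹ * p * g) * z) * g⁻¹ := by group
        _ = g * (z * (g⁻¹ * p * g)) * g⁻¹ := by rw [hz1 _ hp']
        _ = _ := by group
    · calc g * z * g⁻¹ * (g * z * g⁻¹) = g * (z * z) * g⁻¹ := by group
        _ = 1 := by rw [hz2]; group
  have hVel : El V := ⟨fun u hu v hv => hv.2.1 u hu.1, fun u hu => hu.2.2⟩
  set W := X ⊓ Q with hW
  have hWX : 2 * Nat.card W ≥ Nat.card X := by
    rw [← Subgroup.relIndex_bot_left (H := X),
      ← Subgroup.relIndex_mul_relIndex ⊥ W X bot_le inf_le_left, Subgroup.relIndex_bot_left,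
      mul_comm 2]
    refine Nat.mul_le_mul le_rfl ?_
    rw [hW, Subgroup.inf_relIndex_left]
    refine le_trans (Subgroup.relIndex_le_of_le_right hXT (by rw [hQidx]; omega)) hQidx.le
  have hVW : W.relIndex V ≤ 2 := by
    have h1 : El (V ⊔ W) := hVel.sup ⟨fun u hu v hv => hXe.1 u hu.1 v hv.1, fun u hu => hXe.2 u hu.1⟩
      fun u hu w hw => (hu.2.1 w hw.2).symm
    have h2 := (card_sup_ge V W).trans
      (hXmax _ (sup_le (fun z hz => hQT hz.1) (fun z hz => hXT hz.1)) h1)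
    have hpos : 0 < Nat.card W := Nat.card_pos
    exact Nat.le_of_mul_le_mul_right (h2.trans hWX) hpos
  -- commutators with `a` lie in a line
  obtain ⟨v₁, hv₁, hline⟩ : ∃ v₁ ∈ V, ∀ v ∈ V,
      a * v * a⁻¹ * v⁻¹ = 1 ∨ a * v * a⁻¹ * v⁻¹ = v₁ := by
    have hfix : ∀ w ∈ V ⊓ W, a * w * a⁻¹ * w⁻¹ = 1 := fun w hw => by
      rw [hXe.1 a ha w hw.2.1]; group
    by_cases hVleW : V ≤ W
    · exact ⟨1, one_mem _, fun v hv => Or.inl (hfix v ⟨hv, hVleW hv⟩)⟩
    obtain ⟨v₀, hv₀, hv₀W⟩ := SetLike.not_le_iff_exists.1 hVleW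
    refine ⟨a * v₀ * a⁻¹ * v₀⁻¹, mul_mem (hVn a haA v₀ hv₀) (inv_mem hv₀), fun v hv => ?_⟩
    by_cases hvW : v ∈ W
    · exact Or.inl (hfix v ⟨hv, hvW⟩)
    right
    have h2 : (W.subgroupOf V).index = 2 := by
      have h0 : W.relIndex V ≠ 0 := Subgroup.index_ne_zero_of_finite
      have h1 : W.relIndex V ≠ 1 := fun e => hVleW (Subgroup.relIndex_eq_one.1 e)
      show W.relIndex V = 2
      omega
    have := Subgroup.mul_mem_iff_of_index_two h2 (a := (⟨v, hv⟩ : V)) (b := ⟨v₀, hv₀⟩⁻¹)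
    simp only [Subgroup.mem_subgroupOf] at this
    have hmem : v * v₀⁻¹ ∈ W := this.2 (iff_of_false hvW fun h' => hv₀W (by simpa using inv_mem h'))
    set w := v * v₀⁻¹ with hw
    have hwV : w ∈ V := mul_mem hv (inv_mem hv₀)
    have hv_eq : v = w * v₀ := by rw [hw]; group
    have hf : a * w = w * a := hXe.1 a ha w hmem.1
    have hc : w * (a * v₀ * a⁻¹ * v₀⁻¹) = a * v₀ * a⁻¹ * v₀⁻¹ * w :=
      hVel.1 w hwV _ (mul_mem (hVn a haA v₀ hv₀) (inv_mem hv₀))
    rw [hv_eq]
    calc a * (w * v₀) * a⁻¹ * (w * v₀)⁻¹ = (a * w) * v₀ * a⁻¹ * v₀⁻¹ * w⁻¹ := by group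
      _ = w * (a * v₀ * a⁻¹ * v₀⁻¹) * w⁻¹ := by rw [hf]; group
      _ = a * v₀ * a⁻¹ * v₀⁻¹ := by rw [hc]; group
  -- the element of order `q`
  obtain ⟨⟨g, hg⟩, hφg⟩ := hsurj (DihedralGroup.r 1)
  set b := g * a * g⁻¹ with hb
  have hbA : b ∈ A := A.mul_mem (A.mul_mem hg haA) (A.inv_mem hg)
  set v₂ := g * v₁ * g⁻¹ with hv₂def
  have hv₂ : v₂ ∈ V := hVn g hg v₁ hv₁
  have hlineb : ∀ v ∈ V, b * v * b⁻¹ * v⁻¹ = 1 ∨ b * v * b⁻¹ * v⁻¹ = v₂ := by
    intro v hv
    have hv' : g⁻¹ * v * g ∈ V := by simpa using hVn g⁻¹ (A.inv_mem hg) v hv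
    have e : b * v * b⁻¹ * v⁻¹ =
        g * (a * (g⁻¹ * v * g) * a⁻¹ * (g⁻¹ * v * g)⁻¹) * g⁻¹ := by rw [hb]; group
    rcases hline _ hv' with h | h
    · left; rw [e, h]; group
    · right; rw [e, h]
  have ha2 : a * a = 1 := hXe.2 a ha
  have hkerQ : ∀ z : A, φ z = 1 → (z : G) ∈ Q := fun z hz => hker ▸ ⟨z, hz, rfl⟩
  set s := φ ⟨a, haA⟩ with hs
  have hs2 : s * s = 1 := by
    rw [hs, ← map_mul, ← map_one φ]
    congr 1
    exact Subtype.ext ha2
  have hs1 : s ≠ 1 := fun h => haQ (hkerQ _ h)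
  set d : A := ⟨a, haA⟩ * ⟨b, hbA⟩ with hd
  have hφd : φ d = s * (DihedralGroup.r 1 * s * (DihedralGroup.r 1)⁻¹) := by
    have : (⟨b, hbA⟩ : A) = ⟨g, hg⟩ * ⟨a, haA⟩ * ⟨g, hg⟩⁻¹ := Subtype.ext hb
    rw [hd, map_mul, this, map_mul, map_mul, map_inv, hφg, hs]
  obtain ⟨k, hk⟩ : ∃ k : ℕ, (d ^ q) ^ 2 ^ k = 1 := by
    have hm : ((d ^ q : A) : G) ∈ T := hQT (hkerQ _ (by
      rw [map_pow, hφd]; exact (dihedral_pair hq hq2 hs2 hs1 0).2))
    obtain ⟨k, hk⟩ := hT2 ⟨_, hm⟩
    exact ⟨k, Subtype.ext (by simpa using congrArg Subtype.val hk)⟩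
  set x : G := ((d ^ 2 ^ k : A) : G) with hx
  have hxA : x ∈ A := (d ^ 2 ^ k).2
  have hxq : x ^ q = 1 := by
    rw [hx, ← SubmonoidClass.coe_pow, ← pow_mul, mul_comm, pow_mul, hk]; rfl
  have hx1 : x ≠ 1 := by
    intro h
    have h' : d ^ 2 ^ k = 1 := Subtype.ext h
    have := congrArg φ h'
    rw [map_pow, map_one, hφd] at this
    exact (dihedral_pair hq hq2 hs2 hs1 k).1 this
  -- `x` fixes the two-dimensional piece and the quotient
  set U : Finset G := {1, v₁, v₂, v₁ * v₂} with hU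
  let Uset : Subgroup G := Subgroup.closure {v₁, v₂}
  have hUV : Uset ≤ V := (Subgroup.closure_le _).2 (by
    rintro z (rfl | rfl)
    exacts [hv₁, hv₂])
  have hUmem : ∀ z ∈ Uset, z ∈ U := by
    intro z hz
    induction hz using Subgroup.closure_induction with
    | mem z hz => rcases hz with rfl | rfl <;> simp [hU]
    | one => simp [hU]
    | mul u v _ _ hu hv =>
      have h11 : v₁ * v₁ = 1 := hv₁.2.2
      have h22 : v₂ * v₂ = 1 := hv₂.2.2
      have h12 : v₂ * v₁ = v₁ * v₂ := hVel.1 _ hv₂ _ hv₁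
      have h121 : v₁ * v₂ * v₁ = v₂ := by rw [mul_assoc, h12, ← mul_assoc, h11, one_mul]
      have h122 : v₁ * v₂ * v₂ = v₁ := by rw [mul_assoc, h22, mul_one]
      have h112 : v₁ * (v₁ * v₂) = v₂ := by rw [← mul_assoc, h11, one_mul]
      have h212 : v₂ * (v₁ * v₂) = v₁ := by rw [← mul_assoc, h12, h122]
      have h1212 : v₁ * v₂ * (v₁ * v₂) = 1 := by rw [← mul_assoc, h121, h22]
      simp only [hU, Finset.mem_insert, Finset.mem_singleton] at hu hv ⊢
      rcases hu with rfl | rfl | rfl | rfl <;> rcases hv with rfl | rfl | rfl | rfl <;>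
        simp [h11, h22, h12, h121, h122, h112, h212, h1212]
    | inv u hu' hu =>
      rwa [inv_eq_of_mul_eq_one_right (hUV hu').2.2]
  -- the elements moving every vector within `U`
  let P : Subgroup G :=
    { carrier := {p | p ∈ A ∧ ∀ v ∈ V, p * v * p⁻¹ * v⁻¹ ∈ Uset}
      one_mem' := ⟨A.one_mem, fun v hv => by simp⟩
      mul_mem' := by
        rintro p p' ⟨hp, hp1⟩ ⟨hp', hp1'⟩
        refine ⟨A.mul_mem hp hp', fun v hv => ?_⟩
        have hw : p' * v * p'⁻¹ ∈ V := hVn p' hp' v hv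
        have e : p * p' * v * (p * p')⁻¹ * v⁻¹ =
            (p * (p' * v * p'⁻¹) * p⁻¹ * (p' * v * p'⁻¹)⁻¹) * (p' * v * p'⁻¹ * v⁻¹) := by group
        rw [e]
        exact Uset.mul_mem (hp1 _ hw) (hp1' v hv)
      inv_mem' := by
        rintro p ⟨hp, hp1⟩
        refine ⟨A.inv_mem hp, fun v hv => ?_⟩
        have hw : p⁻¹ * v * p⁻¹⁻¹ ∈ V := hVn _ (A.inv_mem hp) v hv
        have e : p⁻¹ * v * p⁻¹⁻¹ * v⁻¹ =
            (p * (p⁻¹ * v * p⁻¹⁻¹) * p⁻¹ * (p⁻¹ * v * p⁻¹⁻¹)⁻¹)⁻¹ := by group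
        rw [e]
        exact Uset.inv_mem (hp1 _ hw) }
  have hv₁U : v₁ ∈ Uset := Subgroup.subset_closure (Or.inl rfl)
  have hv₂U : v₂ ∈ Uset := Subgroup.subset_closure (Or.inr rfl)
  have haP : a ∈ P := ⟨haA, fun v hv => by
    rcases hline v hv with h | h <;> rw [h]
    exacts [Uset.one_mem, hv₁U]⟩
  have hbP : b ∈ P := ⟨hbA, fun v hv => by
    rcases hlineb v hv with h | h <;> rw [h]
    exacts [Uset.one_mem, hv₂U]⟩
  have hxP : x ∈ P := by
    rw [hx, SubmonoidClass.coe_pow]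
    exact P.pow_mem (show ((d : A) : G) ∈ P from P.mul_mem haP hbP) _
  have hxU : ∀ u ∈ Uset, x * u * x⁻¹ = u := by
    intro u hu
    have hmem : ∀ i : ℕ, x ^ i * u * (x ^ i)⁻¹ ∈ U := fun i => by
      refine hUmem _ ?_
      have h1 := (P.pow_mem hxP i).2 u (hUV hu)
      have := Uset.mul_mem h1 hu
      simpa [mul_assoc] using this
    by_contra hne
    have hinj : Function.Injective fun i : Fin q => (⟨_, hmem i⟩ : U) := by
      intro i j hij
      have hij' : x ^ (i : ℕ) * u * (x ^ (i : ℕ))⁻¹ = x ^ (j : ℕ) * u * (x ^ (j : ℕ))⁻¹ :=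
        congrArg Subtype.val hij
      by_contra hne'
      apply hne
      -- a nontrivial power fixing `u` generates
      wlog hlt : (i : ℕ) < j generalizing i j
      · exact this hij.symm hij'.symm (Ne.symm hne')
          (lt_of_le_of_ne (not_lt.1 hlt) fun e => hne' (Fin.ext e.symm))
      have hfix : x ^ ((j : ℕ) - i) ∈ Subgroup.centralizer ({u} : Set G) := by
        rw [Subgroup.mem_centralizer_singleton_iff]
        have e : x ^ (j : ℕ) = x ^ (i : ℕ) * x ^ ((j : ℕ) - i) := by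
          rw [← pow_add, Nat.add_sub_cancel' hlt.le]
        rw [e, mul_inv_rev] at hij'
        have : u = x ^ ((j : ℕ) - i) * u * (x ^ ((j : ℕ) - i))⁻¹ := by
          apply mul_left_cancel (a := x ^ (i : ℕ))
          apply mul_right_cancel (b := (x ^ (i : ℕ))⁻¹)
          rw [hij']
          group
        exact (mul_inv_eq_iff_eq_mul.1 this.symm)
      have hcop : Nat.Coprime q ((j : ℕ) - i) :=
        hq.coprime_iff_not_dvd.2 fun hdv => by
          have := Nat.le_of_dvd (by omega) hdv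
          have := j.2
          omega
      obtain ⟨m, _, hm⟩ := Nat.exists_mul_mod_eq_one_of_coprime hcop.symm hq.one_lt
      have hxm : (x ^ ((j : ℕ) - i)) ^ m = x := by
        rw [← pow_mul, ← Nat.div_add_mod (((j : ℕ) - i) * m) q, hm, pow_add, pow_mul, hxq,
          one_pow, one_mul, pow_one]
      have := Subgroup.pow_mem _ hfix m
      rw [hxm, Subgroup.mem_centralizer_singleton_iff] at this
      exact mul_inv_eq_iff_eq_mul.2 this
    have hcard := Fintype.card_le_of_injective _ hinj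
    rw [Fintype.card_fin, Fintype.card_coe] at hcard
    have h4 : U.card ≤ 4 := Finset.card_le_four
    omega
  have hxV : ∀ v ∈ V, x * v = v * x := by
    intro v hv
    set u := x * v * x⁻¹ * v⁻¹ with hu
    have huU : u ∈ Uset := hxP.2 v hv
    have hpow : ∀ i : ℕ, x ^ i * v * (x ^ i)⁻¹ = u ^ i * v := by
      intro i
      induction i with
      | zero => simp
      | succ i ih =>
        have h1 : x * u * x⁻¹ = u := hxU u huU
        calc x ^ (i + 1) * v * (x ^ (i + 1))⁻¹ = x * (x ^ i * v * (x ^ i)⁻¹) * x⁻¹ := by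
              rw [pow_succ']; group
          _ = (x * u * x⁻¹) ^ i * (x * v * x⁻¹) := by rw [ih, conj_pow]; group
          _ = u ^ i * (u * v) := by rw [h1, hu]; group
          _ = u ^ (i + 1) * v := by rw [pow_succ]; group
    have h1 := hpow q
    rw [hxq] at h1
    have huq : u ^ q = 1 := by simpa using h1.symm
    have hu2 : u ^ 2 = 1 := by rw [pow_two]; exact (hUV huU).2.2
    have hone : u = 1 := by
      have hgcd : Nat.gcd q 2 = 1 := (Nat.coprime_primes hq Nat.prime_two).2 hq2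
      have := pow_gcd_eq_one.mpr ⟨huq, hu2⟩
      rwa [hgcd, pow_one] at this
    rw [hu, mul_inv_eq_one] at hone
    exact mul_inv_eq_iff_eq_mul.1 hone
  -- so `x` and `T` fix `Ω₁(Z(T))`
  set Z : Subgroup G := zc T with hZ
  have hZle : Z ≤ T ⊓ Subgroup.centralizer (T : Set G) :=
    (Subgroup.closure_le _).2 fun w hw => hw.1
  have hZV : Z ≤ V := by
    refine (Subgroup.closure_le _).2 fun w hw => ⟨?_, fun p hp => ?_, ?_⟩
    · exact hcons ⟨hTA hw.1.1, Subgroup.mem_centralizer_iff.2 fun p hp =>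
        Subgroup.mem_centralizer_iff.1 hw.1.2 p (hQT hp)⟩
    · exact Subgroup.mem_centralizer_iff.1 hw.1.2 p (hQT hp)
    · rw [← pow_two]; exact hw.2
  have hxT : x ∉ T := by
    intro h
    obtain ⟨m, hm⟩ := hT2 ⟨x, h⟩
    have hm' : x ^ 2 ^ m = 1 := by simpa using congrArg Subtype.val hm
    have hgcd : Nat.gcd (2 ^ m) q = 1 :=
      Nat.Coprime.pow_left m ((Nat.coprime_primes Nat.prime_two hq).2 (Ne.symm hq2))
    have := pow_gcd_eq_one.mpr ⟨hm', hxq⟩
    rw [hgcd, pow_one] at this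
    exact hx1 this
  have hgen : T ⊔ Subgroup.zpowers x = A := by
    have hle : T ⊔ Subgroup.zpowers x ≤ A := sup_le hTA (Subgroup.zpowers_le.2 hxA)
    have h1 := Subgroup.relIndex_mul_relIndex T (T ⊔ Subgroup.zpowers x) A le_sup_left hle
    rw [hidx] at h1
    have h2 : T.relIndex (T ⊔ Subgroup.zpowers x) ≠ 1 := fun e =>
      hxT (Subgroup.relIndex_eq_one.1 e (Subgroup.mem_sup_right (Subgroup.mem_zpowers x)))
    rcases (Nat.dvd_prime hq).1 (Dvd.intro _ h1) with e | e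
    · exact absurd e h2
    · rw [e] at h1
      refine le_antisymm hle (Subgroup.relIndex_eq_one.1 ?_)
      exact Nat.eq_of_mul_eq_mul_left hq.pos (h1.trans (mul_one q).symm)
  have hbotZ : Z = ⊥ := by
    refine hkill Z (hZle.trans inf_le_left) ?_ (by rw [hZ, cj_zc, hyT])
    rw [← hgen]
    refine le_trans (sup_le ?_ ?_) (Subgroup.centralizer_le_normalizer _)
    · intro t ht
      exact Subgroup.mem_centralizer_iff.2 fun w hw =>
        (Subgroup.mem_centralizer_iff.1 (hZle hw).2 t ht).symm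
    · exact Subgroup.zpowers_le.2 (Subgroup.mem_centralizer_iff.2 fun w hw => (hxV w (hZV hw)).symm)
  exact zc_ne_bot_of hT2 hTne hbotZ

end H8.S3Am
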